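import Cfsg.Agent.H212.LD.Tools
import Cfsg.Agent.H348.PPD.RowSuz
import Cfsg.Agent.H299.K4.SuzX
import Cfsg.Agent.H289.Eight.SuzDeg
import Cfsg.Agent.H812.SuzSeven
import Cfsg.Agent.H55.OutGen

/-!
# S4910, the row `Suz` (helper212)

`α` of degree `143` and `β` of degree prime to `143`.

* the characters of degree prime to `11` are invariant (`H212.LD.inv_of_not_dvd`), and the columns of `11` and `13` are
  orthogonal: there is `β ≠ 1` of degree prime to `11` and `13`;
* the elements of order 7 have the centralizer `7 × A₄`; the characters of degree `± 3` modulo 7 are the seven characters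
  over the character of degree 3 of `A₄`, and the alternating sum of their degrees is 0. The degrees 780, 5940, 15795
  are in this block, and there are no two degrees completing `143, 143, 780, 5940, 15795`: the character of degree 143
  is unique.
-/

set_option autoImplicit false
set_option linter.unusedSectionVars false

open Cfsg Subgroup

namespace Cfsg.Agent.H212.LD

open Cfsg.Agent.Characters.Core
open Cfsg.Agent.H954.LD (CopRow Inv copRow_inv inv_of_unique)
open Cfsg.Agent.H653.Sieve
open Cfsg.Agent.SmallSimple.ThetaSetup Cfsg.Agent.SmallSimple.ThetaOrtho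
open Cfsg.Agent.SmallSimple.TheoremC Cfsg.Agent.SmallSimple.TheoremCCor
open Cfsg.Agent.SmallSimple.ThetaCount

universe u

theorem exists_deg {S : Type u} [Group S] {T : Type} [Group T] (e : S ≃* T) {d : ℕ}
    (h : ∃ χ : IrrCharacter T, charDegree (χ : T → ℂ) = d) : ∃ χ : IrrCharacter S, charDegree (χ : S → ℂ) = d := by
  obtain ⟨χ, hχ⟩ := h
  refine ⟨⟨(χ : T → ℂ) ∘ e.toMonoidHom, isIrr_comp e.toMonoidHom e.surjective χ.2⟩, ?_⟩
  rw [← hχ]
  unfold charDegree
  show Nat.floor ((χ : T → ℂ) (e 1)).re = _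
  rw [map_one]

theorem card_cent {S : Type u} [Group S] {T : Type} [Group T] (e : S ≃* T) (x : S) :
    Nat.card (centralizer ({x} : Set S)) = Nat.card (centralizer ({e x} : Set T)) := by
  have h : centralizer ({e x} : Set T) = (centralizer ({x} : Set S)).map e.toMonoidHom := by
    ext y
    rw [mem_map, mem_centralizer_singleton_iff]
    constructor
    · intro hy
      refine ⟨e.symm y, ?_, e.apply_symm_apply y⟩
      rw [mem_centralizer_singleton_iff]
      apply e.injective
      rw [map_mul, map_mul, e.apply_symm_apply]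
      exact hy
    · rintro ⟨z, hz, rfl⟩
      rw [mem_centralizer_singleton_iff] at hz
      show e z * e x = e x * e z
      rw [← map_mul, hz, map_mul]
  rw [h]
  exact Nat.card_congr ((centralizer ({x} : Set S)).equivMapOfInjective e.toMonoidHom e.injective).toEquiv

/-! ### The second character -/

section beta

variable {S : Type u} [Group S] [Finite S] [IsSimpleGroup S]

theorem exists_beta (hna : ¬ IsMulCommutative S) (hcard : Nat.card S = 448345497600) {x y : S} (hx : orderOf x = 11)
    (hcx : Nat.card (centralizer ({x} : Set S)) = 11) (hy : orderOf y = 13)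
    (hcy : Nat.card (centralizer ({y} : Set S)) = 13) :
    ∃ β : IrrCharacter S, (β : S → ℂ) ≠ 1 ∧ ¬ 11 ∣ charDegree (β : S → ℂ) ∧ ¬ 13 ∣ charDegree (β : S → ℂ) := by
  classical
  have : Finite (IrrCharacter S) := finite_irr
  have := Fintype.ofFinite (IrrCharacter S)
  have h11 : Fact (Nat.Prime 11) := ⟨by norm_num⟩
  have h13 : Fact (Nat.Prime 13) := ⟨by norm_num⟩
  obtain ⟨P, W, hP, he, hW, hC⟩ := exists_col hna hcard hx (k := 1) (by rw [hcx]) 10 1
    [(0, 0), (1, 1), (10, -1)] 0 false (by decide +kernel)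
  obtain ⟨Q, W', hQ, he', hW', hC'⟩ := exists_col hna hcard hy (k := 1) (by rw [hcy]) 6 2
    [(0, 0), (1, 2), (12, -2), (6, -1), (7, 1)] 0 false (by decide +kernel)
  have horth := orth_of_ne (by norm_num : (11 : ℕ) ≠ 13) hP hQ hW hW' he he'
  by_contra hcon
  push Not at hcon
  let o : IrrCharacter S := ⟨1, isIrr_one⟩
  have h1 : ∑ χ : IrrCharacter S, W χ * W' χ = W o * W' o := by
    refine Finset.sum_eq_single o (fun χ _ hχ => ?_) fun h => absurd (Finset.mem_univ o) h
    have hne : (χ : S → ℂ) ≠ 1 := fun h => hχ (Subtype.ext h)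
    by_cases hd : 11 ∣ charDegree (χ : S → ℂ)
    · have h2 := hC.mem χ
      have h3 : deg χ % 11 = 0 := Nat.mod_eq_zero_of_dvd hd
      simp only [h3, List.mem_cons, Prod.mk.injEq, List.not_mem_nil, or_false] at h2
      rcases h2 with h2 | h2 | h2
      · rw [h2.2, zero_mul]
      · omega
      · omega
    · have h2 := hC'.mem χ
      have h3 : deg χ % 13 = 0 := Nat.mod_eq_zero_of_dvd (hcon χ hne hd)
      simp only [h3, List.mem_cons, Prod.mk.injEq, List.not_mem_nil, or_false] at h2
      rcases h2 with h2 | h2 | h2 | h2 | h2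
      · rw [h2.2, mul_zero]
      · omega
      · omega
      · omega
      · omega
  have h2 : W o = 1 := hC.one o rfl
  have h3 : W' o = 2 := hC'.one o rfl
  rw [Orth, h1, h2, h3] at horth
  norm_num at horth

end beta

/-! ### The character of degree 143 -/

/-- the check of the pair of degrees -/
def fd (d : ℕ) : Bool :=
  bif Nat.beq (d % 7) 3 then !(Nat.beq (448345497600 % (10921 + d)) 0) else
  bif Nat.beq (d % 7) 4 then !(Nat.beq (448345497600 % ((d - 10921) + (10921 - d))) 0) else true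

theorem chk : allDiv (448345497600 * 448345497600 + 1) fd [(13, 1), (11, 1), (7, 1), (5, 2), (3, 7), (2, 13)] 1 =
    true := by decide +kernel

theorem fd_of_dvd {d : ℕ} (hd : d ∣ 448345497600) : fd d = true := by
  have h := allDiv_spec (L := [(13, 1), (11, 1), (7, 1), (5, 2), (3, 7), (2, 13)]) (by
    intro pa hpa
    simp only [List.mem_cons, List.not_mem_nil, or_false] at hpa
    rcases hpa with rfl | rfl | rfl | rfl | rfl | rfl <;> norm_num) chk d (by
      have : facProd [(13, 1), (11, 1), (7, 1), (5, 2), (3, 7), (2, 13)] = 448345497600 := by decide +kernel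
      rw [this]
      exact hd) (by
      rw [one_mul]
      have := Nat.le_of_dvd (by norm_num) hd
      have := Nat.mul_le_mul this this
      omega)
  rwa [one_mul] at h

theorem no_pair {a b : ℕ} {s t k : ℤ} (ha : a ∣ 448345497600) (hb : b ∣ 448345497600) (hs : s = 1 ∨ s = -1)
    (ht : t = 1 ∨ t = -1) (hk : (a : ℤ) = 3 * s + 7 * k) (h : s * a + t * b = -10921) : False := by
  have h1 := fd_of_dvd ha
  have hb0 : 448345497600 % b = 0 := Nat.mod_eq_zero_of_dvd hb
  unfold fd at h1
  rcases hs with rfl | rfl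
  · have h2 : a % 7 = 3 := by omega
    have h3 : b = 10921 + a := by rcases ht with rfl | rfl <;> omega
    rw [h2] at h1
    rw [← h3, hb0] at h1
    exact Bool.false_ne_true h1
  · have h2 : a % 7 = 4 := by omega
    have h3 : b = (a - 10921) + (10921 - a) := by rcases ht with rfl | rfl <;> omega
    rw [h2] at h1
    rw [← h3, hb0] at h1
    exact Bool.false_ne_true h1

section seven

variable {S : Type u} [Group S] [Finite S]

theorem isComp_equiv [h7 : Fact (Nat.Prime 7)] {P : Sylow 7 S} {K : Subgroup S} (hK : IsComp 7 (P : Subgroup S) K)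
    (hP : Nat.card P = 7)
    (f : ↥(centralizer ((P : Subgroup S) : Set S)) ≃* Multiplicative (ZMod 7) × alternatingGroup (Fin 4)) :
    Nat.card K = 12 ∧ Nonempty (K ≃* alternatingGroup (Fin 4)) := by
  have hA : Nat.card (alternatingGroup (Fin 4)) = 12 := by
    rw [Nat.card_eq_fintype_card]
    decide
  have h1 := SmallSimple.ThetaOrtho.card_centralizer hK hP
  rw [Nat.card_congr f.toEquiv, Nat.card_prod, hA, Nat.card_congr Multiplicative.toAdd, Nat.card_zmod] at h1
  have h2 : Nat.card K = 12 := by omega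
  refine ⟨h2, ?_⟩
  let g : K →* alternatingGroup (Fin 4) :=
    ((MonoidHom.snd _ _).comp f.toMonoidHom).comp (Subgroup.inclusion hK.le)
  have hg : Function.Injective g := by
    rw [injective_iff_map_eq_one]
    intro y hy
    have h3 : (f (Subgroup.inclusion hK.le y)).2 = 1 := hy
    have h4 : (f (Subgroup.inclusion hK.le y)) ^ 7 = 1 := by
      apply Prod.ext
      · have h5 := pow_card_eq_one' (x := (f (Subgroup.inclusion hK.le y)).1)
        rw [Nat.card_congr Multiplicative.toAdd, Nat.card_zmod] at h5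
        exact h5
      · rw [Prod.pow_snd, h3, one_pow]
        rfl
    have h5 : (Subgroup.inclusion hK.le y) ^ 7 = 1 := by
      apply f.injective
      rw [map_pow, h4, map_one]
    have h6 : (y : S) ^ 7 = 1 := by
      have := congrArg Subtype.val h5
      simpa using this
    have h7' : ¬ 7 ∣ orderOf (y : S) := ((hK y).1 y.2).2
    have h8 : orderOf (y : S) ∣ 7 := orderOf_dvd_of_pow_eq_one h6
    rcases (Nat.dvd_prime h7.out).1 h8 with h9 | h9
    · exact Subtype.ext (orderOf_eq_one_iff.1 h9)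
    · rw [h9] at h7'
      exact absurd (dvd_refl 7) h7'
  have hbij : Function.Bijective g := by
    have hfin : Finite (alternatingGroup (Fin 4)) := inferInstance
    exact (Nat.bijective_iff_injective_and_card g).2 ⟨hg, by rw [h2, hA]⟩
  exact ⟨MulEquiv.ofBijective g hbij⟩

/-- The block of the characters of degree `± 3` modulo 7. -/
theorem exists_block (h : Spor.IsoSuz S) : ∃ (B : Finset (IrrCharacter S)) (δ : IrrCharacter S → ℤ),
    B.card = 7 ∧ (∀ χ ∈ B, (δ χ = 1 ∨ δ χ = -1) ∧ ∃ k : ℤ, (charDegree (χ : S → ℂ) : ℤ) = 3 * δ χ + 7 * k) ∧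
    (∀ χ : IrrCharacter S, charDegree (χ : S → ℂ) % 7 = 3 ∨ charDegree (χ : S → ℂ) % 7 = 4 → χ ∈ B) ∧
    ∑ χ ∈ B, δ χ * (charDegree (χ : S → ℂ) : ℤ) = 0 := by
  classical
  have h7 : Fact (Nat.Prime 7) := ⟨by norm_num⟩
  have hcard : Nat.card S = 448345497600 := by
    obtain ⟨e⟩ := h
    rw [Nat.card_congr e.toEquiv, H812.SuzSeven.card_Suz]
  obtain ⟨P⟩ : Nonempty (Sylow 7 S) := inferInstance
  have hP : Nat.card P = 7 := by
    have := J2Type.SylowSeven.card_sylow P 1 64049356800 (by rw [hcard]; norm_num) (by norm_num)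
    rw [this]; norm_num
  obtain ⟨⟨f⟩, hN⟩ := H812.SuzSeven.main h P
  obtain ⟨K, hK⟩ := exists_isComp P hP
  obtain ⟨hK12, ⟨g⟩⟩ := isComp_equiv hK hP f
  obtain ⟨θ, hθ3, hθ⟩ := exists_theta g
  have : Finite (IrrCharacter K) := finite_irr
  have := Fintype.ofFinite (IrrCharacter K)
  have : Finite (IrrCharacter S) := finite_irr
  have := Fintype.ofFinite (IrrCharacter S)
  have hcastK : ∀ θ' : IrrCharacter K, (θ' : K → ℂ) 1 = (charDegree (θ' : K → ℂ) : ℂ) := fun θ' =>
    Blocks.Knorr.charDegree_eq θ'.2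
  have hcastS : ∀ χ : IrrCharacter S, (χ : S → ℂ) 1 = (charDegree (χ : S → ℂ) : ℂ) := fun χ =>
    Blocks.Knorr.charDegree_eq χ.2
  have hCP : Nat.card (centralizer ((P : Subgroup S) : Set S)) = 84 := by
    rw [SmallSimple.ThetaOrtho.card_centralizer hK hP, hK12]
  have he : (centralizer ((P : Subgroup S) : Set S)).relIndex (normalizer ((P : Subgroup S) : Set S)) = 6 := by
    have hle : centralizer ((P : Subgroup S) : Set S) ≤ normalizer ((P : Subgroup S) : Set S) :=
      centralizer_le_normalizer _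
    have h3 := Subgroup.index_mul_card ((centralizer ((P : Subgroup S) : Set S)).subgroupOf
      (normalizer ((P : Subgroup S) : Set S)))
    rw [Nat.card_congr (Subgroup.subgroupOfEquivOfLe hle).toEquiv, hCP, hN] at h3
    rw [Subgroup.relIndex]
    omega
  -- the degrees in an orbit
  have horb : ∀ θ' θ'' : IrrCharacter K, θ'' ∈ orb P K (θ' : K → ℂ) →
      charDegree (θ'' : K → ℂ) = charDegree (θ' : K → ℂ) := by
    intro θ' θ'' h3
    unfold charDegree
    rw [H653.Sieve.orb_apply_one hK h3]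
  have hst : ∀ n ∈ normalizer ((P : Subgroup S) : Set S), tw (θ : K → ℂ) n = θ := by
    intro n hn
    by_contra hne
    let θ' : IrrCharacter K := ⟨tw (θ : K → ℂ) n, isIrr_tw hK θ.2 hn⟩
    have h3 : θ' ∈ orb P K (θ : K → ℂ) := mem_orb.2 ⟨n, hn, rfl⟩
    have h4 := horb θ θ' h3
    rw [hθ θ' (fun h5 => hne (congrArg Subtype.val h5)), hθ3] at h4
    omega
  have hstab : Nat.card (stabAct hK (θ : K → ℂ)) = 7 - 1 := by
    rw [card_stabAct_of_stable hK hP θ.2 hst, he]
  obtain ⟨B, δ, hBc, hB, hδ, hrel⟩ := theoremC_one hK hP θ.2 hstab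
  refine ⟨B, δ, hBc, ?_, ?_, ?_⟩
  · intro χ hχ
    obtain ⟨h3, h4⟩ := hδ χ hχ
    refine ⟨h3, ?_⟩
    obtain ⟨k, hk⟩ := degree_of_const hK hP θ.2 ((hB χ).2 hχ) h4
    rw [orb_of_stable θ.2 hst, Finset.sum_singleton] at hk
    refine ⟨k, ?_⟩
    have h5 : (((charDegree (χ : S → ℂ) : ℤ)) : ℂ) = ((3 * δ χ + 7 * k : ℤ) : ℂ) := by
      have h6 : ((charDegree (χ : S → ℂ) : ℤ) : ℂ) = (χ : S → ℂ) 1 := by rw [hcastS]; norm_cast
      have h8 : (θ : K → ℂ) 1 = 3 := by rw [hcastK, hθ3]; norm_num
      have h9 : (((⟨(θ : K → ℂ), θ.2⟩ : IrrCharacter K) : K → ℂ)) 1 = 3 := h8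
      rw [h6, hk, h9]
      push_cast
      ring
    exact_mod_cast h5
  · intro χ hχ
    have hnd : ¬ 7 ∣ charDegree (χ : S → ℂ) := by omega
    obtain ⟨θ', hθ'⟩ := H348.PPD.Part.exists_over hK hP hnd
    by_cases hne : θ' = θ
    · rw [hne] at hθ'
      exact (hB χ).1 hθ'
    exfalso
    have hd1 := hθ θ' hne
    obtain ⟨w, s, hw, hs, hw'⟩ := exists_value hK hP he (t := 1) (by norm_num) χ θ' hθ'
    have hdv := dvd_deg_add hP hw
    rw [hd1] at hw'
    -- the length of the orbit
    have hm : (orb P K (θ' : K → ℂ)).card ≤ 2 := by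
      by_contra hcon
      have hsub : orb P K (θ' : K → ℂ) ⊆ (Finset.univ : Finset (IrrCharacter K)).erase θ := by
        intro θ'' h3
        rw [Finset.mem_erase]
        refine ⟨fun h4 => ?_, Finset.mem_univ _⟩
        have h5 := horb θ' θ'' h3
        rw [h4, hθ3, hd1] at h5
        omega
      have hc3 : ((Finset.univ : Finset (IrrCharacter K)).erase θ).card = 3 := by
        rw [Finset.card_erase_of_mem (Finset.mem_univ _), Finset.card_univ, ← Nat.card_eq_fintype_card,
          card_irr_a4 g]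
      have heq := Finset.eq_of_subset_of_card_le hsub (by rw [hc3]; omega)
      let o : IrrCharacter K := ⟨1, isIrr_one⟩
      have ho1 : charDegree (o : K → ℂ) = 1 := by
        show charDegree (1 : K → ℂ) = 1
        unfold charDegree
        simp
      have ho : o ∈ orb P K (θ' : K → ℂ) := by
        rw [heq, Finset.mem_erase]
        refine ⟨fun h4 => ?_, Finset.mem_univ _⟩
        rw [h4, hθ3] at ho1
        omega
      obtain ⟨n, hn, h3⟩ := mem_orb.1 ho
      have hθ1 : (θ' : K → ℂ) = 1 := by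
        have h2 : tw (tw (θ' : K → ℂ) n) n⁻¹ = θ' := by
          rw [← tw_mul hK _ hn (inv_mem hn), mul_inv_cancel, tw_one]
        have h4 : tw (θ' : K → ℂ) n = 1 := h3
        rw [← h2, h4]
        exact tw_one_char hK (inv_mem hn)
      have hor : orb P K (θ' : K → ℂ) = {⟨(θ' : K → ℂ), θ'.2⟩} :=
        orb_of_stable θ'.2 fun n hn => by rw [hθ1]; exact tw_one_char hK hn
      rw [hor, Finset.card_singleton] at hcon
      omega
    rcases hm' : (orb P K (θ' : K → ℂ)).card with _ | _ | _ | m
    · rw [hm'] at hw'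
      rcases hs with rfl | rfl <;> rcases hw' with rfl | rfl <;> push_cast at hdv <;> omega
    · rw [hm'] at hw'
      rcases hs with rfl | rfl <;> rcases hw' with rfl | rfl <;> push_cast at hdv <;> omega
    · rw [hm'] at hw'
      rcases hs with rfl | rfl <;> rcases hw' with rfl | rfl <;> push_cast at hdv <;> omega
    · omega
  · have h3 := hrel 1 (by rw [orderOf_one]; norm_num)
    have h4 : ((∑ χ ∈ B, δ χ * (charDegree (χ : S → ℂ) : ℤ) : ℤ) : ℂ) = ((0 : ℤ) : ℂ) := by
      rw [Int.cast_zero, ← h3]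
      push_cast
      exact Finset.sum_congr rfl fun χ _ => by rw [hcastS]
    exact_mod_cast h4

/-- The character of degree 143 is unique. -/
theorem unique_143 (h : Spor.IsoSuz S) {α α' : IrrCharacter S} (hα : charDegree (α : S → ℂ) = 143)
    (hα' : charDegree (α' : S → ℂ) = 143) : α' = α := by
  classical
  by_contra hne
  obtain ⟨e⟩ := id h
  have hcard : Nat.card S = 448345497600 := by
    rw [Nat.card_congr e.toEquiv, H812.SuzSeven.card_Suz]
  obtain ⟨B, δ, hBc, hδ, hB, hsum⟩ := exists_block h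
  obtain ⟨c3, h3⟩ := exists_deg e H289.Eight.SuzDeg.deg_780
  obtain ⟨c4, h4⟩ := exists_deg e H289.Eight.SuzDeg.deg_5940
  obtain ⟨c5, h5⟩ := exists_deg e H289.Eight.SuzDeg.deg_15795
  have hd : ∀ {c c' : IrrCharacter S} {a b : ℕ}, charDegree (c : S → ℂ) = a → charDegree (c' : S → ℂ) = b → a ≠ b →
      c ≠ c' := by
    rintro c c' a b rfl rfl hab rfl
    exact hab rfl
  have mα := hB α (by rw [hα]; norm_num)
  have mα' := hB α' (by rw [hα']; norm_num)
  have m3 := hB c3 (by rw [h3]; norm_num)
  have m4 := hB c4 (by rw [h4]; norm_num)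
  have m5 := hB c5 (by rw [h5]; norm_num)
  have n13 := hd hα h3 (by norm_num)
  have n14 := hd hα h4 (by norm_num)
  have n15 := hd hα h5 (by norm_num)
  have n23 := hd hα' h3 (by norm_num)
  have n24 := hd hα' h4 (by norm_num)
  have n25 := hd hα' h5 (by norm_num)
  have n34 := hd h3 h4 (by norm_num)
  have n35 := hd h3 h5 (by norm_num)
  have n45 := hd h4 h5 (by norm_num)
  have n12 : α ≠ α' := fun h => hne h.symm
  -- the other two
  let T : Finset (IrrCharacter S) := {α, α', c3, c4, c5}
  have hT : T ⊆ B := by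
    intro χ hχ
    simp only [T, Finset.mem_insert, Finset.mem_singleton] at hχ
    rcases hχ with rfl | rfl | rfl | rfl | rfl <;> assumption
  have hTc : T.card = 5 := by
    simp only [T]
    rw [Finset.card_insert_of_notMem (by simp [n12, n13, n14, n15]), Finset.card_insert_of_notMem
      (by simp [n23, n24, n25]), Finset.card_insert_of_notMem (by simp [n34, n35]), Finset.card_insert_of_notMem
      (by simp [n45]), Finset.card_singleton]
  have hTs : ∑ χ ∈ T, δ χ * (charDegree (χ : S → ℂ) : ℤ) = δ α * 143 + (δ α' * 143 + (δ c3 * 780 + (δ c4 * 5940 +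
      δ c5 * 15795))) := by
    simp only [T]
    rw [Finset.sum_insert (by simp [n12, n13, n14, n15]), Finset.sum_insert
      (by simp [n23, n24, n25]), Finset.sum_insert (by simp [n34, n35]), Finset.sum_insert
      (by simp [n45]), Finset.sum_singleton, hα, hα', h3, h4, h5]
    norm_num
  have hsd : (B \ T).card = 2 := by
    rw [Finset.card_sdiff_of_subset hT, hBc, hTc]
  obtain ⟨a, b, hab, hABs⟩ := Finset.card_eq_two.1 hsd
  have hsplit := Finset.sum_sdiff hT (f := fun χ : IrrCharacter S => δ χ * (charDegree (χ : S → ℂ) : ℤ))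
  rw [hsum, hTs, hABs, Finset.sum_pair hab] at hsplit
  have ma : a ∈ B := (Finset.mem_sdiff.1 (by rw [hABs]; simp : a ∈ B \ T)).1
  have mb : b ∈ B := (Finset.mem_sdiff.1 (by rw [hABs]; simp : b ∈ B \ T)).1
  obtain ⟨sα, kα, eα⟩ := hδ α mα
  obtain ⟨sα', kα', eα'⟩ := hδ α' mα'
  obtain ⟨s3, k3, e3⟩ := hδ c3 m3
  obtain ⟨s4, k4, e4⟩ := hδ c4 m4
  obtain ⟨s5, k5, e5⟩ := hδ c5 m5
  obtain ⟨sa, ka, ea⟩ := hδ a ma
  obtain ⟨sb, kb, eb⟩ := hδ b mb
  rw [hα] at eα
  rw [hα'] at eα'
  rw [h3] at e3
  rw [h4] at e4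
  rw [h5] at e5
  have t1 : δ α = 1 := by rcases sα with h | h <;> rw [h] at eα <;> push_cast at eα <;> omega
  have t2 : δ α' = 1 := by rcases sα' with h | h <;> rw [h] at eα' <;> push_cast at eα' <;> omega
  have t3 : δ c3 = 1 := by rcases s3 with h | h <;> rw [h] at e3 <;> push_cast at e3 <;> omega
  have t4 : δ c4 = -1 := by rcases s4 with h | h <;> rw [h] at e4 <;> push_cast at e4 <;> omega
  have t5 : δ c5 = 1 := by rcases s5 with h | h <;> rw [h] at e5 <;> push_cast at e5 <;> omega
  rw [t1, t2, t3, t4, t5] at hsplit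
  have hdvd : ∀ χ : IrrCharacter S, charDegree (χ : S → ℂ) ∣ 448345497600 := fun χ => by
    rw [← hcard]
    exact Blocks.Knorr.charDegree_dvd χ.2
  exact no_pair (hdvd a) (hdvd b) sa sb ea (by linarith)

end seven

/-- **Row Suz.** -/
theorem row_Suz {S : Type u} [Group S] [Finite S] [IsSimpleGroup S] (hna : ¬ IsMulCommutative S)
    (h : Spor.IsoSuz S) : CopRow S := by
  obtain ⟨e⟩ := id h
  have hcard : Nat.card S = 448345497600 := by
    rw [Nat.card_congr e.toEquiv, H812.SuzSeven.card_Suz]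
  have h2 : Nat.card (Out S) = 2 := by rw [H55.OutGen.card_out_congr e]; exact S2074.result
  have hidx : (MulAut.conj : S →* MulAut S).range.index = 2 := h2
  have hc : center S = ⊥ := H348.PPD.Rows.center_eq_bot hna
  obtain ⟨x0, hx0, hcx0⟩ := H348.PPD.RowSuz.cent11
  obtain ⟨y0, hy0, hcy0⟩ := H474.Suz13.suz_thirteen
  have hx : orderOf (e.symm x0) = 11 := by rw [MulEquiv.orderOf_eq, hx0]
  have hy : orderOf (e.symm y0) = 13 := by rw [MulEquiv.orderOf_eq, hy0]
  have hcx : Nat.card (centralizer ({e.symm x0} : Set S)) = 11 := by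
    rw [card_cent e, e.apply_symm_apply, hcx0]
  have hcy : Nat.card (centralizer ({e.symm y0} : Set S)) = 13 := by
    rw [card_cent e, e.apply_symm_apply, hcy0]
  obtain ⟨β, hβ1, hβ11, hβ13⟩ := exists_beta hna hcard hx hcx hy hcy
  have hiβ : Inv β := inv_of_not_dvd hc hidx (r := 11) (by norm_num) (by norm_num) hcard (by norm_num) hx hcx
    (by norm_num) β hβ11
  obtain ⟨α, hα⟩ : ∃ α : IrrCharacter S, charDegree (α : S → ℂ) = 143 := by
    obtain ⟨ψ, hψ, hψ1, -⟩ := H299.K4.SuzX.exists_143
    obtain ⟨e'⟩ := H299.K4.SuzX.isoX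
    refine exists_deg e ⟨⟨ψ ∘ e'.symm.toMonoidHom, isIrr_comp e'.symm.toMonoidHom e'.symm.surjective hψ⟩, ?_⟩
    unfold charDegree
    show Nat.floor (ψ (e'.symm 1)).re = _
    rw [map_one, hψ1]
    norm_num
  have : Finite (IrrCharacter S) := finite_irr
  have := Fintype.ofFinite (IrrCharacter S)
  have hβ : charDegree (β : S → ℂ) ≠ 1 := fun h => hβ1 (one_of_deg (by rw [hcard]; norm_num) β h)
  refine copRow_inv hna (by omega) (α := α) (β := β) (by rw [hα]; norm_num) hβ ?_ ?_ hiβ
  · rw [hα, show (143 : ℕ) = 11 * 13 by norm_num]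
    exact Nat.Coprime.mul_left ((Nat.Prime.coprime_iff_not_dvd (by norm_num)).2 hβ11)
      ((Nat.Prime.coprime_iff_not_dvd (by norm_num)).2 hβ13)
  · exact inv_of_unique fun ψ hψ => unique_143 h hα (by rw [hψ, hα])

end Cfsg.Agent.H212.LD
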