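import Cfsg.Agent.H954.LD.Row
import Cfsg.Agent.H348.PPD.Crit
import Cfsg.Agent.H653.Sieve.Col
import Cfsg.Agent.H717.SmallClass
import Cfsg.Agent.SmallSimple.TheoremCCor

/-!
# Tools for the rows of S4910 (helper212)

* `inv_or_bad` : a character of `S`, `|Aut S : Inn S| = 2`, is invariant or `BadData S d`;
* `inv_of_not_dvd` : the characters of degree prime to a self-centralizing prime `r` with `(2 |S| / r) mod r ∤ r - 1` are
  invariant;
* `exists_value` : the column of a Sylow subgroup of order `p` with its character of `K`, `C(P) = P × K`;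
* `exists_theta` : the characters of a group isomorphic to `A₄`.
-/

set_option autoImplicit false
set_option linter.unusedSectionVars false

open Cfsg Subgroup
open scoped ComplexConjugate

namespace Cfsg.Agent.H212.LD

open Cfsg.Agent.Characters.Core
open Cfsg.Agent.H348.PPD Cfsg.Agent.H348.PPD.Aut
open Cfsg.Agent.H954.LD (CopRow Inv)

universe u

section inv

variable {S : Type u} [Group S] [Finite S]

theorem charDegree_cast (χ : IrrCharacter S) : (χ : S → ℂ) 1 = (charDegree (χ : S → ℂ) : ℂ) :=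
  Blocks.Knorr.charDegree_eq χ.2

/-- Dichotomy for the characters of `S`. -/
theorem inv_or_bad (hc : center S = ⊥) (hidx : (MulAut.conj : S →* MulAut S).range.index = 2) (χ : IrrCharacter S) :
    Inv χ ∨ Nonempty (BadData S (charDegree (χ : S → ℂ))) := by
  let e : S ≃* (MulAut.conj : S →* MulAut S).range := MonoidHom.ofInjective (Aut.conj_injective hc)
  have he : ∀ s, ((e s : (MulAut.conj : S →* MulAut S).range) : MulAut S) = MulAut.conj s := fun s => rfl
  have hχ' : IsIrrCharacter (MulAut.conj : S →* MulAut S).range ((χ : S → ℂ) ∘ e.symm) :=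
    isIrr_comp (e.symm : (MulAut.conj : S →* MulAut S).range →* S) e.symm.surjective χ.2
  rcases Dich.dich _ hidx hχ' with ⟨ψ, hψ, h2⟩ | ⟨ψ, hψ, h0, h2⟩
  · left
    have h3 : ∀ s, ψ (MulAut.conj s) = (χ : S → ℂ) s := by
      intro s
      rw [← he s, h2]
      simp
    intro b s
    rw [← h3, ← h3, ← conj_apply_conj b s]
    exact isIrr_isClassFunction hψ _ _
  · right
    refine ⟨⟨⟨ψ, hψ⟩, χ, charDegree_cast χ, h0, fun α hα s => ?_, fun α hα hcon => ?_⟩⟩
    · have h3 := (h2 α hα).1 (e s)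
      have h4 : (MulAut.conjNormal α : MulAut (MulAut.conj : S →* MulAut S).range) (e s) = e (α s) := by
        apply Subtype.ext
        rw [MulAut.conjNormal_apply, he, he, conj_apply_conj]
      rw [h4, he] at h3
      simpa using h3
    · apply (h2 α hα).2
      funext n
      obtain ⟨s, rfl⟩ := e.surjective n
      have h4 : (MulAut.conjNormal α : MulAut (MulAut.conj : S →* MulAut S).range) (e s) = e (α s) := by
        apply Subtype.ext
        rw [MulAut.conjNormal_apply, he, he, conj_apply_conj]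
      rw [Function.comp_apply, h4]
      simp only [Function.comp_apply, MulEquiv.symm_apply_apply]
      exact congrFun hcon s

/-- Invariance from one self-centralizing prime. -/
theorem inv_of_not_dvd (hc : center S = ⊥) (hidx : (MulAut.conj : S →* MulAut S).range.index = 2) {r n : ℕ}
    (hr : r.Prime) (hr2 : r ≠ 2) (hn : Nat.card S = n) (hsq : ¬ r ^ 2 ∣ n) {x : S} (hx : orderOf x = r)
    (hk : Nat.card (centralizer ({x} : Set S)) = r) (hnum : ¬ (2 * n / r) % r ∣ r - 1) (χ : IrrCharacter S)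
    (hd : ¬ r ∣ charDegree (χ : S → ℂ)) : Inv χ := by
  subst hn
  rcases inv_or_bad hc hidx χ with h | h
  · exact h
  · obtain ⟨B⟩ := h
    exact absurd (Crit.one hc hidx hr hr2 hsq hx hk B hd).1 hnum

end inv

section value

open Cfsg.Agent.H653.Sieve
open Cfsg.Agent.SmallSimple.ThetaSetup Cfsg.Agent.SmallSimple.ThetaOrtho
open Cfsg.Agent.SmallSimple.TheoremC Cfsg.Agent.SmallSimple.TheoremCCor
open Cfsg.Agent.SmallSimple.PrimeDual Cfsg.Agent.SmallSimple.ThetaCount

variable {G : Type u} [Group G] [Finite G] {p : ℕ} [hp : Fact p.Prime] {P : Sylow p G} {K : Subgroup G}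

/-- The values of the column of `P`, with the character of `K`. -/
theorem exists_value (hK : IsComp p (P : Subgroup G) K) (hP : Nat.card P = p) {e t : ℕ}
    (he : (centralizer ((P : Subgroup G) : Set G)).relIndex (normalizer ((P : Subgroup G) : Set G)) = e)
    (ht : e * t = p - 1) (χ : IrrCharacter G) (θ : IrrCharacter K) (hθ : χ ∈ Over P (θ : K → ℂ)) :
    ∃ w s : ℤ, (e : ℂ) * w = csum (P : Subgroup G) (χ : G → ℂ) ∧ (s = 1 ∨ s = -1) ∧
      (w = s * (t * (orb P K (θ : K → ℂ)).card * charDegree (θ : K → ℂ)) ∨ w = s * charDegree (θ : K → ℂ)) := by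
  classical
  have hfi : Finite (IrrCharacter G) := finite_irr
  have := Fintype.ofFinite (IrrCharacter G)
  have hPf := Fintype.ofFinite (P : Subgroup G)
  set m := (orb P K (θ : K → ℂ)).card with hm
  obtain ⟨n, hn0, hn1⟩ := isIrr_apply_one θ.2
  have hn : (θ : K → ℂ) 1 = n := hn1
  have hdeg : charDegree (θ : K → ℂ) = n := by
    unfold charDegree
    rw [hn]; simp
  rw [hdeg]
  have hcm := card_stabAct_mul_card_orb hK hP θ.2
  rw [he, ← hm] at hcm
  set eθ := Nat.card (stabAct hK (θ : K → ℂ)) with heθ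
  have het : eθ * (m * t) = p - 1 := by rw [← mul_assoc, hcm, ht]
  obtain ⟨NE, X, ε, d, S, hB, -, hNE, hX, hε, hd, hval, hvalX, -, -, -⟩ := theoremC hK hP θ.2 heθ.symm het
  have hcsum : csum (P : Subgroup G) (χ : G → ℂ) =
      ∑ x ∈ (Finset.univ : Finset (P : Subgroup G)).erase 1, (χ : G → ℂ) x := csum_eq_erase _ _
  have hcard : ((Finset.univ : Finset (P : Subgroup G)).erase 1).card = p - 1 := by
    rw [Finset.card_erase_of_mem (Finset.mem_univ _), Finset.card_univ, ← Nat.card_eq_fintype_card]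
    exact congrArg (· - 1) hP
  rcases (hB χ).1 hθ with h | h
  · -- nonexceptional
    refine ⟨ε χ * (t * m * n), ε χ, ?_, hε χ h, Or.inl rfl⟩
    rw [hcsum, Finset.sum_congr rfl (g := fun _ => (ε χ : ℂ) * (m * n))]
    · rw [Finset.sum_const, hcard, nsmul_eq_mul, ← ht]
      push_cast
      ring
    · intro x hx
      have hx1 : x ≠ 1 := (Finset.mem_erase.1 hx).1
      have h2 := apply_of_const hK hP θ.2 hθ (hval χ h) hx1 (1 : K)
      rw [H653.Sieve.sum_orb_one hK, ← hm, hn] at h2
      simpa using h2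
  · -- exceptional
    obtain ⟨hSc, hS1, -, hSv⟩ := hvalX χ h
    refine ⟨-d * n, -d, ?_, by rcases hd with rfl | rfl <;> simp, Or.inr rfl⟩
    -- the sum of a part
    have hpart : ∑ x ∈ (Finset.univ : Finset (P : Subgroup G)).erase 1, part (θ : K → ℂ) (χ : G → ℂ) x =
        -(d : ℂ) * eθ := by
      have h2 := SmallSimple.TheoremBCor.sum_exc_off (f := fun x : (P : Subgroup G) => part (θ : K → ℂ) (χ : G → ℂ) x)
        (d := (d : ℂ)) hS1 hSv
      rw [hSc] at h2
      rw [← Finset.add_sum_erase _ _ (Finset.mem_univ (1 : (P : Subgroup G)))] at h2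
      linear_combination h2
    have horb : ∀ θ' ∈ orb P K (θ : K → ℂ),
        ∑ x ∈ (Finset.univ : Finset (P : Subgroup G)).erase 1, part (θ' : K → ℂ) (χ : G → ℂ) x = -(d : ℂ) * eθ := by
      intro θ' hθ'
      obtain ⟨g, hg, hgθ⟩ := mem_orb.1 hθ'
      rw [← hpart, ← hgθ]
      have h3 : ∀ x : (P : Subgroup G), part (tw (θ : K → ℂ) g) (χ : G → ℂ) x =
          part (θ : K → ℂ) (χ : G → ℂ) (cP hg x : (P : Subgroup G)) := by
        intro x
        rw [← part_conj hK _ (isIrr_isClassFunction χ.2) hg, coe_cP]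
      rw [Finset.sum_congr rfl fun x _ => h3 x]
      refine Finset.sum_bij (fun x _ => cP hg x) ?_ ?_ ?_ ?_
      · intro x hx
        rw [Finset.mem_erase] at hx ⊢
        refine ⟨fun h4 => hx.1 ?_, Finset.mem_univ _⟩
        exact (MulEquiv.map_eq_one_iff (cP hg)).1 h4
      · intro x _ y _ h4
        exact (cP hg).injective h4
      · intro y hy
        rw [Finset.mem_erase] at hy
        refine ⟨(cP hg).symm y, ?_, by simp⟩
        rw [Finset.mem_erase]
        refine ⟨fun h4 => hy.1 ?_, Finset.mem_univ _⟩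
        have h5 := congrArg (cP hg) h4
        rwa [MulEquiv.apply_symm_apply, map_one] at h5
      · intro x _
        rfl
    rw [hcsum]
    have h2 : ∀ x ∈ (Finset.univ : Finset (P : Subgroup G)).erase 1, (χ : G → ℂ) x =
        ∑ θ' ∈ orb P K (θ : K → ℂ), part (θ' : K → ℂ) (χ : G → ℂ) x * n := by
      intro x hx
      have hx1 : x ≠ 1 := (Finset.mem_erase.1 hx).1
      have h3 := apply_mul_orb hK hP θ.2 hθ hx1 (1 : K)
      rw [Subgroup.coe_one, mul_one] at h3
      rw [h3]
      exact Finset.sum_congr rfl fun θ' h4 => by rw [H653.Sieve.orb_apply_one hK h4, hn]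
    rw [Finset.sum_congr rfl h2, Finset.sum_comm]
    have h3 : ∀ θ' ∈ orb P K (θ : K → ℂ),
        ∑ x ∈ (Finset.univ : Finset (P : Subgroup G)).erase 1, part (θ' : K → ℂ) (χ : G → ℂ) x * (n : ℂ) =
          -(d : ℂ) * eθ * n := by
      intro θ' h4
      rw [← Finset.sum_mul, horb θ' h4]
    rw [Finset.sum_congr rfl h3, Finset.sum_const, ← hm, nsmul_eq_mul, ← hcm]
    push_cast
    ring

/-- The degree modulo `p`. -/
theorem dvd_deg_add (hP : Nat.card P = p) {χ : IrrCharacter G} {e : ℕ} {w : ℤ}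
    (hw : (e : ℂ) * w = csum (P : Subgroup G) (χ : G → ℂ)) :
    (p : ℤ) ∣ (charDegree (χ : G → ℂ) : ℤ) + e * w := by
  classical
  have := Fintype.ofFinite (P : Subgroup G)
  obtain ⟨m, hm⟩ := SmallSimple.TheoremBCor.exists_sum_eq (isIrr_isCharacter χ.2) (P : Subgroup G)
  rw [csum_eq] at hw
  have h1 : (P : Subgroup G).carrier = (P : Set G) := rfl
  have h2 : Nat.card (P : Subgroup G) = p := hP
  rw [hm, h2, Blocks.Knorr.charDegree_eq χ.2] at hw
  refine ⟨m, ?_⟩
  have h3 : (((charDegree (χ : G → ℂ) : ℤ) + e * w : ℤ) : ℂ) = ((p * m : ℤ) : ℂ) := by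
    push_cast
    rw [hw]
    ring
  exact_mod_cast h3

end value

section a4

variable {K : Type u} [Group K] [Finite K]

theorem card_irr_a4 (g : K ≃* alternatingGroup (Fin 4)) : Nat.card (IrrCharacter K) = 4 := by
  rw [card_irr]
  have h : Nat.card (ConjClasses K) = Nat.card (ConjClasses (alternatingGroup (Fin 4))) := by
    refine Nat.card_congr (Equiv.ofBijective (ConjClasses.map g.toMonoidHom) ⟨?_, ?_⟩)
    · intro a b hab
      obtain ⟨a, rfl⟩ := ConjClasses.exists_rep a
      obtain ⟨b, rfl⟩ := ConjClasses.exists_rep b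
      apply ConjClasses.mk_eq_mk_iff_isConj.2
      have h1 : IsConj (g a) (g b) := ConjClasses.mk_eq_mk_iff_isConj.1 hab
      have h2 := g.symm.toMonoidHom.map_isConj h1
      simpa using h2
    · intro a
      obtain ⟨a, rfl⟩ := ConjClasses.exists_rep a
      refine ⟨ConjClasses.mk (g.symm a), ?_⟩
      show ConjClasses.mk (g (g.symm a)) = _
      rw [MulEquiv.apply_symm_apply]
  rw [h, H717.SmallClass.conj_alt_four]

/-- The characters of `A₄`. -/
theorem exists_theta (g : K ≃* alternatingGroup (Fin 4)) :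
    ∃ θ : IrrCharacter K, charDegree (θ : K → ℂ) = 3 ∧ ∀ θ' : IrrCharacter K, θ' ≠ θ → charDegree (θ' : K → ℂ) = 1 := by
  classical
  have : Finite (IrrCharacter K) := finite_irr
  have := Fintype.ofFinite (IrrCharacter K)
  have h4 := card_irr_a4 g
  have h12 : Nat.card K = 12 := by
    rw [Nat.card_congr g.toEquiv]
    rw [Nat.card_eq_fintype_card]
    decide
  have hsum := SmallSimple.DegreeData.sum_sq (G := K)
  rw [h12] at hsum
  have hpos : ∀ θ : IrrCharacter K, 1 ≤ charDegree (θ : K → ℂ) := by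
    intro θ
    obtain ⟨n, hn0, hn1⟩ := isIrr_apply_one θ.2
    have : charDegree (θ : K → ℂ) = n := by
      unfold charDegree
      rw [hn1]; simp
    omega
  rw [Nat.card_eq_fintype_card] at h4
  have hex : ∃ θ : IrrCharacter K, 3 ≤ charDegree (θ : K → ℂ) := by
    by_contra hcon
    push Not at hcon
    have h1 : ∀ θ : IrrCharacter K, ∃ b : ℕ, charDegree (θ : K → ℂ) ^ 2 = 1 + 3 * b := by
      intro θ
      have h2 := hpos θ
      have h3 := hcon θ
      have h5 : charDegree (θ : K → ℂ) = 1 ∨ charDegree (θ : K → ℂ) = 2 := by omega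
      rcases h5 with h5 | h5 <;> rw [h5]
      · exact ⟨0, by norm_num⟩
      · exact ⟨1, by norm_num⟩
    choose b hb using h1
    rw [Finset.sum_congr rfl fun θ _ => hb θ, Finset.sum_add_distrib, ← Finset.mul_sum, Finset.sum_const,
      Finset.card_univ, h4, smul_eq_mul] at hsum
    omega
  obtain ⟨θ, hθ⟩ := hex
  have h1 := Finset.add_sum_erase Finset.univ (fun θ : IrrCharacter K => charDegree (θ : K → ℂ) ^ 2) (Finset.mem_univ θ)
  rw [hsum] at h1
  have h2 : ((Finset.univ : Finset (IrrCharacter K)).erase θ).card = 3 := by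
    rw [Finset.card_erase_of_mem (Finset.mem_univ _), Finset.card_univ, h4]
  have h3 : 3 ≤ ∑ θ' ∈ (Finset.univ : Finset (IrrCharacter K)).erase θ, charDegree (θ' : K → ℂ) ^ 2 := by
    have h5 : ∑ _θ' ∈ (Finset.univ : Finset (IrrCharacter K)).erase θ, 1 ≤
        ∑ θ' ∈ (Finset.univ : Finset (IrrCharacter K)).erase θ, charDegree (θ' : K → ℂ) ^ 2 :=
      Finset.sum_le_sum fun θ' _ => Nat.one_le_pow _ _ (hpos θ')
    rw [Finset.sum_const, h2] at h5
    simpa using h5
  have hd3 : charDegree (θ : K → ℂ) = 3 := by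
    have h5 : charDegree (θ : K → ℂ) ^ 2 ≤ 9 := by
      have h6 : charDegree (θ : K → ℂ) ^ 2 + ∑ θ' ∈ (Finset.univ : Finset (IrrCharacter K)).erase θ,
        charDegree (θ' : K → ℂ) ^ 2 = 12 := h1
      omega
    nlinarith
  refine ⟨θ, hd3, fun θ' hne => ?_⟩
  have h5 : ∑ θ' ∈ (Finset.univ : Finset (IrrCharacter K)).erase θ, charDegree (θ' : K → ℂ) ^ 2 = 3 := by
    have h6 : charDegree (θ : K → ℂ) ^ 2 + ∑ θ' ∈ (Finset.univ : Finset (IrrCharacter K)).erase θ,
      charDegree (θ' : K → ℂ) ^ 2 = 12 := h1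
    rw [hd3] at h6
    omega
  have h6 := Finset.add_sum_erase ((Finset.univ : Finset (IrrCharacter K)).erase θ)
    (fun θ : IrrCharacter K => charDegree (θ : K → ℂ) ^ 2) (Finset.mem_erase.2 ⟨hne, Finset.mem_univ θ'⟩)
  have h7 : (((Finset.univ : Finset (IrrCharacter K)).erase θ).erase θ').card = 2 := by
    rw [Finset.card_erase_of_mem (Finset.mem_erase.2 ⟨hne, Finset.mem_univ θ'⟩), h2]
  have h8 : 2 ≤ ∑ θ'' ∈ ((Finset.univ : Finset (IrrCharacter K)).erase θ).erase θ', charDegree (θ'' : K → ℂ) ^ 2 := by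
    have h5 : ∑ _θ' ∈ ((Finset.univ : Finset (IrrCharacter K)).erase θ).erase θ', 1 ≤
        ∑ θ'' ∈ ((Finset.univ : Finset (IrrCharacter K)).erase θ).erase θ', charDegree (θ'' : K → ℂ) ^ 2 :=
      Finset.sum_le_sum fun θ' _ => Nat.one_le_pow _ _ (hpos θ')
    rw [Finset.sum_const, h7] at h5
    simpa using h5
  have h9 : charDegree (θ' : K → ℂ) ^ 2 ≤ 1 := by
    have h11 : charDegree (θ' : K → ℂ) ^ 2 + ∑ θ'' ∈ ((Finset.univ : Finset (IrrCharacter K)).erase θ).erase θ',
      charDegree (θ'' : K → ℂ) ^ 2 = ∑ θ' ∈ (Finset.univ : Finset (IrrCharacter K)).erase θ,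
      charDegree (θ' : K → ℂ) ^ 2 := h6
    rw [h5] at h11
    omega
  have h10 := hpos θ'
  nlinarith

end a4

end Cfsg.Agent.H212.LD
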